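import Cfsg.Agent.Lib.Blocks.SubgroupRankSum
import Cfsg.Agent.Lib.Blocks.KernelBlock
import Cfsg.Agent.Lib.Blocks.FongReynolds
import Cfsg.Agent.Lib.Blocks.Rank

/-!
# Blocks with one more character than the rank

All the nontrivial subsections are then at one class of `p`-elements and have rank one.
-/

set_option autoImplicit false
set_option linter.unusedSectionVars false
set_option linter.style.haveILetI false

namespace CfsgLib.Blocks.RankDrop

open Cfsg CfsgLib.Blocks.RankSum
open scoped ComplexConjugate CfsgLib.Char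

variable {p : ℕ} {M : Ideal AlgInt} {G : Type*} [Group G] [Fintype G]

/-- The rank at a nontrivial `p`-element. -/
noncomputable def secRank (p : ℕ) (M : Ideal AlgInt) (U : Set (IrrCharacter G)) (v : G) : ℕ :=
  blockRank p (inducingInto M (Subgroup.centralizer ({v} : Set G)) U)

theorem card_centralizer_of_isConj {v w : G} (h : IsConj v w) :
    Nat.card (Subgroup.centralizer ({w} : Set G)) =
      Nat.card (Subgroup.centralizer ({v} : Set G)) := by
  obtain ⟨x, rfl⟩ := isConj_iff.mp h
  refine (Nat.card_congr ((MulAut.conj x).toEquiv.subtypeEquiv fun z => ?_)).symm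
  simp only [Subgroup.mem_centralizer_singleton_iff, MulEquiv.toEquiv_eq_coe, EquivLike.coe_coe,
    MulAut.conj_apply]
  constructor <;> intro e
  · calc x * z * x⁻¹ * (x * v * x⁻¹) = x * (z * v) * x⁻¹ := by group
      _ = _ := by rw [e]; group
  · calc z * v = x⁻¹ * (x * z * x⁻¹ * (x * v * x⁻¹)) * x := by group
      _ = _ := by rw [e]; group

/-- **One more character than the rank.** -/
theorem secRank_eq_one (hM : IsPModular p M) {U : Set (IrrCharacter G)} (hU : IsBlockUnion M U)
    (hk : Nat.card U = blockRank p U + 1)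
    (hpos : ∀ v : G, v ≠ 1 → (∃ k : ℕ, orderOf v = p ^ k) → 0 < secRank p M U v) :
    (∀ v w : G, v ≠ 1 → w ≠ 1 → (∃ k : ℕ, orderOf v = p ^ k) → (∃ k : ℕ, orderOf w = p ^ k) →
      IsConj v w) ∧
    (∃ v : G, v ≠ 1 ∧ ∃ k : ℕ, orderOf v = p ^ k) ∧
    ∀ v : G, v ≠ 1 → (∃ k : ℕ, orderOf v = p ^ k) → secRank p M U v = 1 := by
  classical
  have h := card_mul_card_sub_rank (p := p) hM hU
  rw [hk, show (((blockRank p U + 1 : ℕ) : ℤ) - (blockRank p U : ℤ)) = 1 by omega, mul_one] at h
  set S : Finset G := Finset.univ.filter fun v : G => v ≠ 1 ∧ ∃ k : ℕ, orderOf v = p ^ k with hS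
  have hS' : Nat.card G = ∑ v ∈ S,
      Nat.card (Subgroup.centralizer ({v} : Set G)) * secRank p M U v := by
    refine Int.ofNat_inj.mp (h.trans ?_)
    push_cast
    exact Finset.sum_congr (by ext; simp [hS]) fun _ _ => rfl
  have hconjp : ∀ v ∈ S, ∀ w, IsConj v w → w ∈ S := fun v hv w hw => by
    obtain ⟨-, hv1, k, hk⟩ := Finset.mem_filter.mp hv
    obtain ⟨x, rfl⟩ := isConj_iff.mp hw
    refine Finset.mem_filter.mpr ⟨Finset.mem_univ _, by simpa using hv1, k, ?_⟩
    rw [← hk]
    exact orderOf_injective (MulAut.conj x).toMonoidHom (MulAut.conj x).injective v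
  have hclass : ∀ v : G, Nat.card (Subgroup.centralizer ({v} : Set G)) *
      (Finset.univ.filter fun w => IsConj v w).card = Nat.card G := fun v => by
    rw [← card_centralizer_mul_index v, index_centralizer_eq_card, ← Fintype.card_subtype,
      ← Nat.card_eq_fintype_card]
  have hle : ∀ v ∈ S, Nat.card G ≤ ∑ w ∈ (Finset.univ.filter fun w => IsConj v w),
      Nat.card (Subgroup.centralizer ({w} : Set G)) * secRank p M U w := by
    intro v hv
    calc Nat.card G = ∑ w ∈ (Finset.univ.filter fun w => IsConj v w),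
          Nat.card (Subgroup.centralizer ({v} : Set G)) := by
          rw [Finset.sum_const, smul_eq_mul, mul_comm, hclass]
      _ ≤ _ := Finset.sum_le_sum fun w hw => by
          have hw' := (Finset.mem_filter.mp hw).2
          have hwS := hconjp v hv w hw'
          rw [card_centralizer_of_isConj hw']
          obtain ⟨-, h1, h2⟩ := Finset.mem_filter.mp hwS
          exact Nat.le_mul_of_pos_right _ (hpos w h1 h2)
  have hpS : ∀ v ∈ S, 0 < Nat.card (Subgroup.centralizer ({v} : Set G)) * secRank p M U v :=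
    fun v hv => Nat.mul_pos Nat.card_pos
      (hpos v (Finset.mem_filter.mp hv).2.1 (Finset.mem_filter.mp hv).2.2)
  refine ⟨fun v w hv1 hw1 hvp hwp => ?_, ?_, fun v hv1 hvp => ?_⟩
  · by_contra hne
    have hv : v ∈ S := Finset.mem_filter.mpr ⟨Finset.mem_univ _, hv1, hvp⟩
    have hw : w ∈ S := Finset.mem_filter.mpr ⟨Finset.mem_univ _, hw1, hwp⟩
    have hsub : (Finset.univ.filter fun z => IsConj v z) ⊆ S.erase w := fun z hz => by
      have hz' := (Finset.mem_filter.mp hz).2
      exact Finset.mem_erase.mpr ⟨fun e => hne (e ▸ hz'), hconjp v hv z hz'⟩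
    have h1 := (hle v hv).trans (Finset.sum_le_sum_of_subset hsub)
    rw [← Finset.add_sum_erase S _ hw] at hS'
    have := hpS w hw
    omega
  · by_contra hno
    push Not at hno
    rw [Finset.sum_eq_zero fun v hv => absurd (Finset.mem_filter.mp hv).2.2
      (fun ⟨k, hk⟩ => hno v (Finset.mem_filter.mp hv).2.1 k hk)] at hS'
    exact Nat.card_pos.ne' hS'
  · have hv : v ∈ S := Finset.mem_filter.mpr ⟨Finset.mem_univ _, hv1, hvp⟩
    by_contra hne
    have h2 : 1 < secRank p M U v := by have := hpos v hv1 hvp; omega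
    have hsub : (Finset.univ.filter fun z => IsConj v z) ⊆ S := fun z hz =>
      hconjp v hv z (Finset.mem_filter.mp hz).2
    have hlt : ∑ _w ∈ (Finset.univ.filter fun w => IsConj v w),
        Nat.card (Subgroup.centralizer ({v} : Set G)) <
        ∑ w ∈ (Finset.univ.filter fun w => IsConj v w),
          Nat.card (Subgroup.centralizer ({w} : Set G)) * secRank p M U w := by
      refine Finset.sum_lt_sum (fun w hw => ?_) ⟨v, Finset.mem_filter.mpr ⟨Finset.mem_univ _, IsConj.refl v⟩, ?_⟩
      · have hw' := (Finset.mem_filter.mp hw).2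
        obtain ⟨-, h1, h3⟩ := Finset.mem_filter.mp (hsub hw)
        rw [card_centralizer_of_isConj hw']
        exact Nat.le_mul_of_pos_right _ (hpos w h1 h3)
      · exact lt_mul_of_one_lt_right Nat.card_pos h2
    rw [Finset.sum_const, smul_eq_mul, mul_comm, hclass] at hlt
    have := hlt.trans_le (Finset.sum_le_sum_of_subset hsub)
    omega

/-- A principal block of rank one has all regular elements in its kernel. -/
theorem exists_kernel_of_rank_one (hM : IsPModular p M) {H : Type*} [Group H] [Fintype H]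
    (h1 : blockRank p (principalBlock M H) = 1) :
    ∃ K : Subgroup H, K.Normal ∧ ¬ p ∣ Nat.card K ∧ ∀ y, IsPRegular p y → y ∈ K := by
  classical
  have := isPrime_of_isPModular hM
  have hB := isPBlock_principalBlock (M := M) (G := H)
  obtain ⟨K, hKn, hK⟩ := exists_blockKer_subgroup (principalBlock M H)
  refine ⟨K, hKn, not_dvd_card_of_le_blockKer hM hB K hK.subset, fun y hy => ?_⟩
  have hyK : y ∈ blockKer (principalBlock M H) := by
    intro χ hχ
    have hone : IsPRegular p (1 : H) := by
      rw [IsPRegular, orderOf_one]; exact hM.1.not_dvd_one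
    have ht : trivIrr H ∈ principalBlock M H := by
      rw [principalBlock_eq]; exact mem_blockOf_self _
    obtain ⟨v, -, hv⟩ := finrank_eq_one_iff'.mp h1
    obtain ⟨a, ha⟩ := hv ⟨_, Submodule.subset_span ⟨χ, hχ, rfl⟩⟩
    obtain ⟨b, hb⟩ := hv ⟨_, Submodule.subset_span ⟨trivIrr H, ht, rfl⟩⟩
    have e := fun z => congrFun (congrArg Subtype.val ha) z
    have e' := fun z => congrFun (congrArg Subtype.val hb) z
    have he : ∀ z, IsPRegular p z → a * (v : H → ℂ) z = (χ : H → ℂ) z ∧ b * (v : H → ℂ) z = 1 :=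
      fun z hz => ⟨by simpa [pRegularPart, hz] using e z,
        by simpa [pRegularPart, hz, trivIrr] using e' z⟩
    obtain ⟨h3, h4⟩ := he y hy
    obtain ⟨h5, h6⟩ := he 1 hone
    have hb0 : b ≠ 0 := left_ne_zero_of_mul_eq_one h6
    rw [← h3, ← h5]
    congr 1
    exact mul_left_cancel₀ hb0 (h4.trans h6.symm)
  exact hK.symm.subset hyK

theorem indFun_regPart (T : Subgroup G) [Fintype T] (f : T → ℂ) :
    indFun T (regPart p f) = regPart p (indFun T f) := by
  classical
  funext g
  have key : ∀ x : G, extendByZero T (regPart p f) (x⁻¹ * g * x) =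
      if IsPRegular p g then extendByZero T f (x⁻¹ * g * x) else 0 := fun x => by
    have hreg : IsPRegular p (x⁻¹ * g * x) ↔ IsPRegular p g := by
      rw [IsPRegular, IsPRegular, show x⁻¹ * g * x = (MulAut.conj x⁻¹).toMonoidHom g by simp,
        orderOf_injective (MulAut.conj x⁻¹).toMonoidHom (MulAut.conj x⁻¹).injective g]
    by_cases hm : x⁻¹ * g * x ∈ T
    · rw [show x⁻¹ * g * x = ((⟨_, hm⟩ : T) : G) from rfl, extendByZero_apply, extendByZero_apply]
      have : IsPRegular p (⟨_, hm⟩ : T) ↔ IsPRegular p g := by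
        rw [← hreg, IsPRegular, IsPRegular, Subgroup.orderOf_mk]
      by_cases hg : IsPRegular p g
      · rw [if_pos hg, regPart_of_regular (this.mpr hg)]
      · rw [if_neg hg, regPart_of_singular fun h => hg (this.mp h)]
    · rw [extendByZero_eq_zero _ _ hm, extendByZero_eq_zero _ _ hm, ite_self]
  by_cases hg : IsPRegular p g
  · rw [regPart_of_regular hg]
    simp only [indFun, key, if_pos hg]
  · rw [regPart_of_singular hg]
    simp only [indFun, key, if_neg hg, Finset.sum_const_zero, mul_zero]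

variable {N : Subgroup G} [hN : N.Normal] [Fintype N] {b : Set (IrrCharacter N)} {T : Subgroup G}
  [Fintype T]

/-- The numbers of the induced block. -/
theorem card_rank_indFun (hM : IsPModular p M) (hNT : N ≤ T) (hb : IsPBlock M b)
    (hT : ∀ g : G, g ∈ T ↔ ∀ θ ∈ b, ∀ θ' : IrrCharacter N,
      (∀ n : N, (θ' : N → ℂ) n = (θ : N → ℂ) ⟨g * n * g⁻¹, hN.conj_mem n n.2 g⟩) → θ' ∈ b)
    {B' : Set (IrrCharacter T)} (hB' : IsPBlock M B')
    (hover : ∀ ψ ∈ B', IsOver hNT b ((ψ : IrrCharacter T) : T → ℂ))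
    {B : Set (IrrCharacter G)} (hB : IsPBlock M B)
    (hmem : ∀ χ : IrrCharacter G, χ ∈ B ↔ ∃ ψ ∈ B', (χ : G → ℂ) = indFun T (ψ : T → ℂ)) :
    Nat.card B = Nat.card B' ∧ blockRank p B = blockRank p B' := by
  classical
  have := isPrime_of_isPModular hM
  have hinner : ∀ ψ ∈ B', ∀ ξ ∈ B', classInner (indFun T ((ψ : IrrCharacter T) : T → ℂ))
      (indFun T ((ξ : IrrCharacter T) : T → ℂ)) = if ψ = ξ then 1 else 0 := fun ψ hψ ξ hξ => by
    rw [Char.frobenius_reciprocity T _ (Char.isClassFunction_indFun T _)]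
    rw [← Char.classInner_conj_symm, classInner_indFun_res hNT hb hT (hover ξ hξ) (hover ψ hψ)]
    split_ifs with h1 h2 h2
    · exact map_one _
    · exact absurd h1.symm h2
    · exact absurd h2.symm h1
    · exact map_zero _
  let F : B' → B := fun ψ => ⟨⟨_, isIrr_indFun hNT hb hT (hover ψ.1 ψ.2)⟩,
    (hmem _).mpr ⟨ψ.1, ψ.2, rfl⟩⟩
  have hF : Function.Bijective F := by
    refine ⟨fun ψ ξ h => Subtype.ext ?_, fun χ => ?_⟩
    · by_contra hne
      have h1 := hinner ψ.1 ψ.2 ξ.1 ξ.2
      rw [if_neg hne] at h1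
      have h2 := hinner ψ.1 ψ.2 ψ.1 ψ.2
      rw [if_pos rfl] at h2
      have h3 : indFun T ((ψ.1 : IrrCharacter T) : T → ℂ) = indFun T ((ξ.1 : IrrCharacter T) : T → ℂ) :=
        congrArg (fun x : B => ((x.1 : IrrCharacter G) : G → ℂ)) h
      rw [← h3, h2] at h1
      exact one_ne_zero h1
    · obtain ⟨ψ, hψ, e⟩ := (hmem χ.1).mp χ.2
      exact ⟨⟨ψ, hψ⟩, Subtype.ext (Subtype.ext e.symm)⟩
  refine ⟨(Nat.card_congr (Equiv.ofBijective F hF)).symm, ?_⟩
  have h1 := blockRank_eq_sum_classInner (p := p) hM (IsPBlock.isBlockUnion hB)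
  have h2 := blockRank_eq_sum_classInner (p := p) hM (IsPBlock.isBlockUnion hB')
  refine Nat.cast_injective (R := ℂ) ?_
  rw [h1, h2]
  rw [Finset.sum_subtype (p := fun χ => χ ∈ B) _ (fun χ => by simp),
    Finset.sum_subtype (p := fun ψ => ψ ∈ B') _ (fun ψ => by simp)]
  refine ((Equiv.ofBijective F hF).sum_comp _).symm.trans (Finset.sum_congr rfl fun ψ _ => ?_)
  show classInner (regPart p (indFun T ((ψ.1 : IrrCharacter T) : T → ℂ)))
    (indFun T ((ψ.1 : IrrCharacter T) : T → ℂ)) = _
  rw [← indFun_regPart, Char.frobenius_reciprocity T _ (Char.isClassFunction_indFun T _),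
    regPart_eq_sum hM (IsPBlock.isBlockUnion hB') ψ.2, Char.classInner_sum_left,
    Char.classInner_sum_left]
  refine Finset.sum_congr rfl fun ξ hξ => ?_
  rw [Char.classInner_smul_left, Char.classInner_smul_left]
  congr 1
  have hξ' := (Finset.mem_filter.mp hξ).2
  rw [← Char.frobenius_reciprocity T _ (Char.isClassFunction_indFun T _), hinner ξ hξ' ψ.1 ψ.2]
  split_ifs with h
  · rw [h, Char.classInner_irr_self ψ.1.2]
  · rw [Char.classInner_irr_ne ξ.2 ψ.1.2 fun e => h (Subtype.ext e)]

end CfsgLib.Blocks.RankDrop
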